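import Groth.Prelude.Def_StCoarse
import Groth.Prelude.Def_StGerb
import Groth.Agent.AlgStLib.OfPsh
import Groth.Agent.AlgStLib.FppfSite
import Groth.Agent.AlgStLib.Stack
import Groth.Agent.H23.QCCrit

/-!
# Coarse moduli spaces along gerbes
-/

set_option autoImplicit false
set_option backward.isDefEq.respectTransparency false
set_option backward.isDefEq.respectTransparency.types false
set_option linter.unusedVariables false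

universe u

open CategoryTheory CategoryTheory.Functor CategoryTheory.Limits AlgebraicGeometry Opposite AlgSp
  Groth.Agent.FibBase Groth.Agent.AlgStLib

namespace Groth.Agent.GerbMod49

variable {S : Scheme.{u}}

/-- Covering sieves of an algebraically closed point are trivial. -/
theorem sieve_id_of_mem_J {Ω : Type u} [Field Ω] [IsAlgClosed Ω] {t : Spec (CommRingCat.of Ω) ⟶ S}
    {R : Sieve (Over.mk t : Over S)} (hR : R ∈ AlgSp.J S (Over.mk t)) : R (𝟙 _) := by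
  obtain ⟨κ, V, v, -, hlfp, hs, hvR⟩ := exists_fppf_of_mem_J hR
  obtain ⟨i, a, -⟩ := hs (IsLocalRing.closedPoint Ω)
  have := hlfp i
  have : Surjective (v i).left := ⟨fun x => ⟨a, Subsingleton.elim (α := PrimeSpectrum Ω) _ _⟩⟩
  obtain ⟨σ, hσ⟩ := Groth.Agent.H23.QCCrit.exists_geomPoint_lift
    ((v i).left : (V i).left ⟶ Spec (CommRingCat.of Ω)) Ω (𝟙 _)
  let σ' : Over.mk t ⟶ V i := Over.homMk σ (by
    show σ ≫ (V i).hom = t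
    rw [← Over.w (v i), ← Category.assoc]
    erw [hσ]
    exact Category.id_comp _)
  have h := R.downward_closed (hvR i) σ'
  rwa [show σ' ≫ v i = 𝟙 _ from Over.OverMorphism.ext hσ] at h

variable {𝒳 𝒴 : AlgSt.Cat S} {M : Sp S}

theorem fibSec_congr (π : 𝒳 ⥤ᵇ AlgSt.ofSp M) {T : Over S} {x y : 𝒳.p.Fiber T} (φ : x ⟶ y) :
    AlgSt.fibSec π x = AlgSt.fibSec π y := by
  obtain ⟨x, rfl⟩ := x
  obtain ⟨y, hy⟩ := y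
  have hm : 𝒳.p.map φ.1 = eqToHom hy.symm := by
    have := φ.2
    exact map_eq_of_isHomLift_id (p := 𝒳.p) φ.2
  show secAt π x = _
  rw [← secAt_map π φ.1, hm]
  show M.obj.map _ (M.obj.map _ _) = M.obj.map _ _
  exact res_res M.obj _ _ _ |>.trans (res_congr M.obj (eqToHom_trans _ _) _)

theorem fibSec_iso {π π' : 𝒳 ⥤ᵇ AlgSt.ofSp M} (e : π ≅ π') {T : Over S} (x : 𝒳.p.Fiber T) :
    AlgSt.fibSec π x = AlgSt.fibSec π' x := by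
  obtain ⟨x, rfl⟩ := x
  exact secAt_eq_of_iso e x

/-- The image of an object of a fibre. -/
abbrev imF (F : 𝒳 ⥤ᵇ 𝒴) {T : Over S} (x : 𝒳.p.Fiber T) : 𝒴.p.Fiber T :=
  ⟨F.obj x.1, (F.w_obj x.1).trans x.2⟩

theorem fibSec_comp (F : 𝒳 ⥤ᵇ 𝒴) (π : 𝒴 ⥤ᵇ AlgSt.ofSp M) {T : Over S} (x : 𝒳.p.Fiber T) :
    AlgSt.fibSec (BasedFunctor.comp F π) x =
      AlgSt.fibSec π (imF F x) := rfl

variable (h𝒳 : FibCat.IsFibGrpd 𝒳.p) (h𝒴 : FibCat.IsFibGrpd 𝒴.p) (F : 𝒳 ⥤ᵇ 𝒴)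
  (hF : Gerb.IsGerbeOver (AlgSp.J S) F)

include hF h𝒳 h𝒴

theorem exists_preimage {Ω : Type u} [Field Ω] [IsAlgClosed Ω] (t : Spec (CommRingCat.of Ω) ⟶ S)
    (y : 𝒴.p.Fiber (Over.mk t)) : ∃ (x : 𝒳.p.Fiber (Over.mk t)),
      Nonempty (imF F x ⟶ y) := by
  obtain ⟨y, hy⟩ := y
  obtain ⟨R, hR, hR'⟩ := hF.1 y
  have h1 : R.pullback (eqToHom hy.symm) (𝟙 (Over.mk t)) :=
    sieve_id_of_mem_J ((AlgSp.J S).pullback_stable _ hR)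
  obtain ⟨x, g, hg⟩ := hR' _ h1
  have hx : 𝒳.p.obj x = Over.mk t :=
    (F.w_obj x).symm.trans (IsHomLift.domain_eq 𝒴.p (𝟙 (Over.mk t) ≫ eqToHom hy.symm) g)
  refine ⟨⟨x, hx⟩, ⟨⟨g, ?_⟩⟩⟩
  refine IsHomLift.of_fac' _ _ g ((F.w_obj x).trans hx) hy ?_
  rw [IsHomLift.fac' 𝒴.p (𝟙 (Over.mk t) ≫ eqToHom hy.symm) g]
  simp

theorem nonempty_iso {Ω : Type u} [Field Ω] [IsAlgClosed Ω] (t : Spec (CommRingCat.of Ω) ⟶ S)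
    (x x' : 𝒳.p.Fiber (Over.mk t))
    (b : imF F x ⟶ imF F x') :
    Nonempty (x ≅ x') := by
  have hb : 𝒴.p.IsHomLift (𝟙 (𝒳.p.obj x.1)) b.1 := isHomLift_id_congr x.2.symm b.2
  obtain ⟨R, hR, hR'⟩ := hF.2 x.1 x'.1 b.1 hb
  have h1 : R.pullback (eqToHom x.2.symm) (𝟙 (Over.mk t)) :=
    sieve_id_of_mem_J ((AlgSp.J S).pullback_stable _ hR)
  obtain ⟨x₀, φ, ψ, hφ, hψ, -⟩ := hR' _ h1
  have hx₀ : 𝒳.p.obj x₀ = Over.mk t := IsHomLift.domain_eq 𝒳.p (𝟙 (Over.mk t) ≫ eqToHom x.2.symm) φ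
  have h2 : 𝒳.p.IsHomLift (𝟙 (Over.mk t)) φ := IsHomLift.of_fac' _ _ φ hx₀ x.2 (by
    rw [IsHomLift.fac' 𝒳.p (𝟙 (Over.mk t) ≫ eqToHom x.2.symm) φ]; simp)
  have h3 : 𝒳.p.IsHomLift (𝟙 (Over.mk t)) ψ := IsHomLift.of_fac' _ _ ψ hx₀ x'.2 (by
    rw [IsHomLift.fac' 𝒳.p (𝟙 (Over.mk t) ≫ eqToHom x.2.symm) ψ]; simp)
  have := FibBase.isIso_of_lift (p := 𝒳.p) (hp := h𝒳) (𝟙 (Over.mk t)) φ
  have := FibBase.isIso_of_lift (p := 𝒳.p) (hp := h𝒳) (𝟙 (Over.mk t)) ψ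
  have h4 : 𝒳.p.IsHomLift (𝟙 (Over.mk t)) ((asIso φ).symm ≪≫ asIso ψ).hom := by
    have : 𝒳.p.IsHomLift (𝟙 (Over.mk t)) (asIso φ).hom := h2
    have := IsHomLift.lift_id_inv 𝒳.p (Over.mk t) (asIso φ)
    have : 𝒳.p.IsHomLift (𝟙 (Over.mk t)) (asIso ψ).hom := h3
    show 𝒳.p.IsHomLift (𝟙 (Over.mk t)) ((asIso φ).inv ≫ (asIso ψ).hom)
    infer_instance
  exact ⟨fiberIsoMk ((asIso φ).symm ≪≫ asIso ψ) h4⟩

theorem geomPtBij_comp (π : 𝒴 ⥤ᵇ AlgSt.ofSp M) :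
    AlgSt.GeomPtBij π ↔ AlgSt.GeomPtBij (BasedFunctor.comp F π) := by
  constructor <;> intro h Ω _ _ t
  · refine ⟨fun m => ?_, fun x x' e => ?_⟩
    · obtain ⟨y, hy⟩ := (h Ω t).1 m
      obtain ⟨x, ⟨g⟩⟩ := exists_preimage h𝒳 h𝒴 F hF t y
      exact ⟨x, by rw [fibSec_comp, fibSec_congr π g, hy]⟩
    · rw [fibSec_comp, fibSec_comp] at e
      obtain ⟨i⟩ := (h Ω t).2 _ _ e
      exact nonempty_iso h𝒳 h𝒴 F hF t x x' i.hom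
  · refine ⟨fun m => ?_, fun y y' e => ?_⟩
    · obtain ⟨x, hx⟩ := (h Ω t).1 m
      exact ⟨imF F x, (fibSec_comp F π x).symm.trans hx⟩
    · obtain ⟨x, ⟨g⟩⟩ := exists_preimage h𝒳 h𝒴 F hF t y
      obtain ⟨x', ⟨g'⟩⟩ := exists_preimage h𝒳 h𝒴 F hF t y'
      obtain ⟨i⟩ := (h Ω t).2 x x' (by rw [fibSec_comp, fibSec_comp, fibSec_congr π g, fibSec_congr π g', e])
      haveI : FibCat.IsFibGrpd 𝒴.p := h𝒴
      have := fiber_isIso (p := 𝒴.p) g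
      have := fiber_isIso (p := 𝒴.p) g'
      have := h𝒴
      have hi : 𝒳.p.IsHomLift (𝟙 (Over.mk t)) i.hom.1 := i.hom.2
      let i' : imF F x ⟶ imF F x' :=
        ⟨F.map i.hom.1, F.preserves_isHomLift _ _⟩
      have := fiber_isIso (p := 𝒴.p) i'
      exact ⟨(asIso g).symm ≪≫ asIso i' ≪≫ asIso g'⟩

/-- Coarse moduli spaces of a gerbe and of its base agree. -/
theorem isCoarseModuli_iff
    (huniv : ∀ (N : AlgSp.Sp S), AlgSp.IsAlgSpace N → ∀ φ : 𝒳 ⥤ᵇ AlgSt.ofSp N,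
      ∃ ψ : 𝒴 ⥤ᵇ AlgSt.ofSp N, Nonempty (BasedFunctor.comp F ψ ≅ φ) ∧
        ∀ ψ' : 𝒴 ⥤ᵇ AlgSt.ofSp N, Nonempty (BasedFunctor.comp F ψ' ≅ φ) → Nonempty (ψ' ≅ ψ)) :
    ((∃ (M : AlgSp.Sp S) (π : 𝒴 ⥤ᵇ AlgSt.ofSp M), AlgSt.IsCoarseModuli π) ↔
        ∃ (M : AlgSp.Sp S) (π : 𝒳 ⥤ᵇ AlgSt.ofSp M), AlgSt.IsCoarseModuli π) ∧
      ∀ (M : AlgSp.Sp S) (π : 𝒴 ⥤ᵇ AlgSt.ofSp M), AlgSt.IsCoarseModuli π →
        AlgSt.IsCoarseModuli (BasedFunctor.comp F π) := by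
  have fwd : ∀ (M : AlgSp.Sp S) (π : 𝒴 ⥤ᵇ AlgSt.ofSp M), AlgSt.IsCoarseModuli π →
      AlgSt.IsCoarseModuli (BasedFunctor.comp F π) := fun M π hπ => by
    refine ⟨⟨hπ.1.1, fun N hN φ => ?_⟩, (geomPtBij_comp h𝒳 h𝒴 F hF π).1 hπ.2⟩
    obtain ⟨ψ, ⟨e⟩, hu⟩ := huniv N hN φ
    obtain ⟨g, ⟨eg⟩, hgu⟩ := hπ.1.2 N hN ψ
    exact ⟨g, ⟨whiskerLeftIso F eg ≪≫ e⟩, fun g' ⟨e'⟩ => hgu g' (hu _ ⟨e'⟩)⟩
  refine ⟨⟨fun ⟨M, π, h⟩ => ⟨M, _, fwd M π h⟩, fun ⟨M, π, hπ⟩ => ?_⟩, fwd⟩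
  obtain ⟨ψ, ⟨e⟩, -⟩ := huniv M hπ.1.1 π
  refine ⟨M, ψ, ⟨hπ.1.1, fun N hN φ => ?_⟩, (geomPtBij_comp h𝒳 h𝒴 F hF ψ).2 fun Ω _ _ t => ?_⟩
  · obtain ⟨g, ⟨eg⟩, hgu⟩ := hπ.1.2 N hN (BasedFunctor.comp F φ)
    refine ⟨g, ?_, fun g' ⟨e'⟩ => hgu g' ⟨(whiskerRightIso e (AlgSt.ofSpMap g')).symm ≪≫ whiskerLeftIso F e'⟩⟩
    obtain ⟨ψ₀, -, hu⟩ := huniv N hN (BasedFunctor.comp F φ)
    obtain ⟨a⟩ := hu (BasedFunctor.comp ψ (AlgSt.ofSpMap g)) ⟨whiskerRightIso e (AlgSt.ofSpMap g) ≪≫ eg⟩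
    obtain ⟨b⟩ := hu φ ⟨Iso.refl _⟩
    exact ⟨a ≪≫ b.symm⟩
  · refine ⟨fun m => ?_, fun x x' h => (hπ.2 Ω t).2 x x' ?_⟩
    · obtain ⟨x, hx⟩ := (hπ.2 Ω t).1 m
      exact ⟨x, (fibSec_iso e x).trans hx⟩
    · rw [← fibSec_iso e x, ← fibSec_iso e x', h]

end Groth.Agent.GerbMod49
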